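import Cfsg.Agent.H873.RG.Defs
import Cfsg.Agent.H844.Ore.BThirteen
import Cfsg.Agent.H514.RC.BNum
import Cfsg.Agent.H182.RG.Comp

/-!
# S3509, row of the Baby Monster: a transposition commuting with all members (helper569)

* `fix_or` : `Sec.Data t σ` (`X₀ ≤ C(t)` with `X₀ / ⟨t⟩ ≅ E` simple with regular cycles), all members of a cover commute
  with `t`: for every prime `s` dividing `|E|` there is `y` of order `s` such that every point is fixed by `t` or `y`.
* `not_trans` : contradiction in the Baby Monster.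
-/

set_option autoImplicit false
set_option maxRecDepth 100000

namespace Cfsg.Agent.H569.RB

open Cfsg Subgroup MulAction Cfsg.Agent.H106.RC Cfsg.Agent.H873.RG Cfsg.Agent.BabyComp
open scoped commutatorElement

/-- **pairs from a section of the centralizer of an element commuting with all members** -/
theorem fix_or {L Ω ι E : Type} [Group L] [Finite L] [Finite ι] [MulAction L Ω] [Group E] {x : ι → L} {r : ι → ℕ}
    (hx : PF x r) (hc : Cov Ω x) {t : L} {X₀ : Subgroup L} {σ : ↥X₀ →* E} (H : Sec.Data t σ)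
    (hcomm : ∀ i, x i * t = t * x i) (hs : IsSimpleGroup E) (hn : ¬ IsMulCommutative E) (hRC : RC E)
    {s : ℕ} (hsp : s.Prime) (hsE : s ∣ Nat.card E) :
    ∃ y : L, orderOf y = s ∧ ∀ ω : Ω, t • ω = ω ∨ y • ω = ω := by
  have hsf : Fact s.Prime := ⟨hsp⟩
  -- `M = X₀'`
  let M0 : Subgroup ↥X₀ := commutator ↥X₀
  have hM0 : M0.map σ = ⊤ := by
    show Subgroup.map σ ⁅(⊤ : Subgroup ↥X₀), (⊤ : Subgroup ↥X₀)⁆ = ⊤
    rw [map_commutator, ← MonoidHom.range_eq_map, MonoidHom.range_eq_top.2 H.surj]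
    exact H182.RG.perfect_of_simple hs hn
  have htc : ∀ m : ↥X₀, m * ⟨t, H.mem⟩ = ⟨t, H.mem⟩ * m := fun m => Subtype.ext (H.comm m m.2)
  -- `X₀ = M ⟨t⟩`
  have hdec : ∀ a : ↥X₀, ∃ c ∈ M0, a = c ∨ a = c * ⟨t, H.mem⟩ := by
    intro a
    have h1 : σ a ∈ M0.map σ := by rw [hM0]; trivial
    obtain ⟨c, hc, hca⟩ := h1
    refine ⟨c, hc, ?_⟩
    rcases (H.map_eq (a := a) (b := c)).1 hca.symm with h2 | h2
    · exact Or.inl (Subtype.ext h2)
    · exact Or.inr (Subtype.ext h2)
  have hM0p : ⁅M0, M0⁆ = M0 := by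
    apply le_antisymm (commutator_le_left M0 M0)
    show ⁅(⊤ : Subgroup ↥X₀), (⊤ : Subgroup ↥X₀)⁆ ≤ _
    rw [commutator_le]
    intro a _ b _
    have key : ∀ c k d l : ↥X₀, (∀ m : ↥X₀, m * k = k * m) → (∀ m : ↥X₀, m * l = l * m) →
        ⁅c * k, d * l⁆ = ⁅c, d⁆ := by
      intro c k d l hk hl
      rw [commutatorElement_def, commutatorElement_def]
      calc c * k * (d * l) * (c * k)⁻¹ * (d * l)⁻¹
          = c * (k * (d * l * k⁻¹)) * c⁻¹ * (l⁻¹ * d⁻¹) := by group
        _ = c * (d * l * k⁻¹ * k) * c⁻¹ * (l⁻¹ * d⁻¹) := by rw [← hk]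
        _ = c * d * (l * (c⁻¹ * l⁻¹)) * d⁻¹ := by group
        _ = c * d * (c⁻¹ * l⁻¹ * l) * d⁻¹ := by rw [← hl]
        _ = c * d * c⁻¹ * d⁻¹ := by group
    obtain ⟨c, hcM, hc⟩ := hdec a
    obtain ⟨d, hdM, hd⟩ := hdec b
    have h1 : ⁅a, b⁆ = ⁅c, d⁆ := by
      rcases hc with rfl | rfl <;> rcases hd with rfl | rfl
      · rfl
      · have := key a 1 d ⟨t, H.mem⟩ (fun m => by rw [mul_one, one_mul]) htc
        rwa [mul_one] at this
      · have := key c ⟨t, H.mem⟩ b 1 htc (fun m => by rw [mul_one, one_mul])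
        rwa [mul_one] at this
      · exact key c ⟨t, H.mem⟩ d ⟨t, H.mem⟩ htc htc
    rw [h1]
    exact commutator_mem_commutator hcM hdM
  let M : Subgroup L := M0.map X₀.subtype
  have hMp : ⁅M, M⁆ = M := by
    show ⁅M0.map _, M0.map _⁆ = _
    rw [← map_commutator, hM0p]
  let e0 : M0 ≃* M := M0.equivMapOfInjective _ (subtype_injective _)
  let f0 : M0 →* E := σ.comp M0.subtype
  have hf0s : Function.Surjective f0 := by
    intro q
    have h1 : q ∈ M0.map σ := by rw [hM0]; trivial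
    obtain ⟨c, hc, hcq⟩ := h1
    exact ⟨⟨c, hc⟩, hcq⟩
  let π : M →* E := f0.comp e0.symm.toMonoidHom
  have hπ : ∀ c : M0, π (e0 c) = f0 c := fun c => by
    show f0 (e0.symm (e0 c)) = f0 c
    rw [MulEquiv.symm_apply_apply]
  have hπs : Function.Surjective π := hf0s.comp e0.symm.surjective
  have hπk : π.ker ≤ center M := by
    intro m hm
    obtain ⟨c, rfl⟩ := e0.surjective m
    rw [MonoidHom.mem_ker, hπ] at hm
    have h1 : ∀ c' : ↥X₀, (c : ↥X₀) * c' = c' * c := by
      intro c'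
      rcases (H.ker (c : ↥X₀)).1 hm with h2 | h2
      · have h3 : (c : ↥X₀) = 1 := Subtype.ext h2
        rw [h3, one_mul, mul_one]
      · have h3 : (c : ↥X₀) = ⟨t, H.mem⟩ := Subtype.ext h2
        rw [h3, htc]
    rw [mem_center_iff]
    intro m'
    obtain ⟨c', rfl⟩ := e0.surjective m'
    rw [← map_mul, ← map_mul]
    congr 1
    exact Subtype.ext (h1 _).symm
  have hnorm : ∀ j, x j ∈ normalizer (M : Set L) := by
    intro j
    refine mem_normalizer_fintype ?_
    rintro _ ⟨c, hc, rfl⟩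
    refine ⟨Sec.cj H (hcomm j) c, ?_, rfl⟩
    have h2 : M0.map (Sec.cj H (hcomm j)) ≤ M0 := by
      show Subgroup.map (Sec.cj H (hcomm j)) ⁅(⊤ : Subgroup ↥X₀), (⊤ : Subgroup ↥X₀)⁆ ≤ _
      rw [map_commutator]
      exact commutator_mono le_top le_top
    exact h2 ⟨c, hc, rfl⟩
  have main : ∀ ω : Ω, M ≤ stabilizer L ω ∨ t • ω = ω := by
    intro ω
    rcases mrule_RC hs hn x r hx.prime hx.inj hx.pow hx.comm M hMp π hπs hπk hnorm hRC ω (fun m _ => by
      obtain ⟨j, hj⟩ := hc (m • ω)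
      exact ⟨j, hj⟩) with h1 | ⟨j, hj, hjω⟩
    · exact Or.inl h1
    · right
      rcases H.cen (x j) (hcomm j) (fun m hm => by
        left
        obtain ⟨c, hcM, hc⟩ := hdec ⟨m, hm⟩
        have h2 : x j * (c : L) = (c : L) * x j := hj _ ⟨c, hcM, rfl⟩
        have h3 : x j * m = m * x j := by
          rcases hc with hc | hc
          · have h4 : m = (c : L) := congrArg Subtype.val hc
            rw [h4, h2]
          · have h4 : m = (c : L) * t := congrArg Subtype.val hc
            rw [h4]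
            calc x j * ((c : L) * t) = (x j * (c : L)) * t := by group
              _ = (c : L) * (x j * t) := by rw [h2]; group
              _ = (c : L) * t * x j := by rw [hcomm j]; group
        rw [h3, mul_inv_cancel_right]) with h5 | h5
      · exact absurd h5 (hx.ne j)
      · rwa [h5] at hjω
  obtain ⟨m, hm⟩ := exists_prime_orderOf_dvd_card' (G := M) s (hsE.trans (card_dvd_of_surjective π hπs))
  refine ⟨m, by rw [Subgroup.orderOf_coe, hm], fun ω => ?_⟩
  rcases main ω with h | h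
  · exact Or.inr (h m.2)
  · exact Or.inl h

/-- `²E₆(2)` is nonabelian simple and not alternating -/
theorem nsa_te62 {K : Type} [Field K] [Fintype K] (hK : Fintype.card K = 4) : NSA ↥(Lie.twistedE6 K 2) := by
  have h := Cfsg.Agent.S1070.result (K := K) (q := 2) Nat.prime_two.isPrimePow (by rw [hK]; norm_num)
  have hcE := Cfsg.Agent.BM.HBFinal.card_E K hK
  refine ⟨h.1, h.2, ?_⟩
  rintro ⟨n, hn, ⟨e⟩⟩
  have h1 := Nat.card_congr e.toEquiv
  have : Nontrivial (Fin n) := Fin.nontrivial_iff_two_le.2 (by omega)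
  have h2 : 2 * Nat.card (alternatingGroup (Fin n)) = n.factorial := by
    rw [Nat.card_eq_fintype_card, two_mul_card_alternatingGroup, Fintype.card_perm, Fintype.card_fin]
  have h0 : Nat.card ↥(Lie.twistedE6 K 2) = 76532479683774853939200 := hcE
  rw [h0] at h1
  rw [← h1] at h2
  rcases Nat.lt_or_ge n 24 with h3 | h3
  · have h4 := Nat.factorial_le (show n ≤ 23 by omega)
    rw [← h2] at h4
    revert h4
    decide
  · have h4 := Nat.factorial_le h3
    rw [← h2] at h4
    revert h4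
    decide

/-- **no cover of the Baby Monster all of whose members commute with a transposition** -/
theorem not_trans (B : Cfsg.Agent.H940.Eng.Base) (hIH : IHx (Nat.card Spor.BabyMonster)) {Ω : Type} [Finite Ω]
    [Nonempty Ω] [MulAction Spor.BabyMonster Ω] (hE : Env Spor.BabyMonster Ω (⊤ : Subgroup Spor.BabyMonster))
    {ι : Type} [Finite ι] {x : ι → Spor.BabyMonster} {r : ι → ℕ} (hx : PF x r) (hc : Cov Ω x)
    {d : Spor.BabyMonster} (hd : IsConj d (PresentedGroup.of Spor.BabyMonster.Gen.t1 : Spor.BabyMonster))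
    (hcomm : ∀ i, x i * d = d * x i) : False := by
  have hfin : Finite Spor.BabyMonster := CTwoTab.BInst.finite_B
  obtain ⟨K, iF, iT, hK, t, X₀, σ, D, ht, hcard⟩ := CTwoTab.BInst.exists_sec
  obtain ⟨g, hg⟩ := isConj_iff.1 (hd.trans ht.symm)
  have hcE : Nat.card ↥(Lie.twistedE6 K 2) = 76532479683774853939200 := Cfsg.Agent.BM.HBFinal.card_E K hK
  have hfE : Finite ↥(Lie.twistedE6 K 2) := Nat.finite_of_card_ne_zero (by rw [hcE]; norm_num)
  have hnsa := nsa_te62 hK
  have hcB : Nat.card Spor.BabyMonster = 4154781481226426191177580544000000 :=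
    NotCT.Orders.b ⟨MulEquiv.refl _⟩
  have hRC : RC ↥(Lie.twistedE6 K 2) := hIH _ hnsa (by rw [hcE, hcB]; norm_num)
  have D' := D.comap (MulAut.conj g)
  have hdt : (MulAut.conj g).symm t = d := by
    rw [MulAut.conj_symm_apply, ← hg]
    group
  rw [hdt] at D'
  obtain ⟨y, hy, hyc⟩ := fix_or hx hc D' hcomm hnsa.simple hnsa.ncomm hRC (s := 19) (by norm_num)
    (by rw [hcE]; norm_num)
  exact H514.RC.base_B B ⟨MulEquiv.refl _⟩ hE D'.t_ne (by rw [hy]; norm_num) (by rw [hy]; norm_num) hyc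

end Cfsg.Agent.H569.RB
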