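import Cfsg.Agent.H569.RB.Trans
import Cfsg.Agent.H472.RB.Seven

/-!
# S3509, row of the Baby Monster: no cover with a member of order 7 (helper569)
-/

set_option autoImplicit false

namespace Cfsg.Agent.H569.RB

open Cfsg Subgroup MulAction Cfsg.Agent.H106.RC Cfsg.Agent.H873.RG

/-- **no member of order 7** -/
theorem no_seven (B : Cfsg.Agent.H940.Eng.Base) (hIH : IHx (Nat.card Spor.BabyMonster)) {Ω : Type} [Finite Ω]
    [Nonempty Ω] [MulAction Spor.BabyMonster Ω] (hE : Env Spor.BabyMonster Ω (⊤ : Subgroup Spor.BabyMonster))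
    {ι : Type} [Finite ι] {x : ι → Spor.BabyMonster} {r : ι → ℕ} (hx : PF x r) (hc : Cov Ω x) {i : ι}
    (hi : r i = 7) : False := by
  have h7 : Fact (Nat.Prime 7) := ⟨by norm_num⟩
  have ho : orderOf (x i) = 7 := orderOf_eq_prime (by rw [← hi]; exact hx.pow i) (hx.ne i)
  obtain ⟨d, hd, -, -, hcd⟩ := H472.RB.seven_central ho
  exact not_trans B hIH hE hx hc hd fun j => hcd _ (hx.comm j i)

end Cfsg.Agent.H569.RB
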